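import Groth.Agent.H24Depth2.Split
import Groth.Agent.H24Punct.Main
import Groth.Agent.H24FMod.AlgPred
import Groth.Agent.H24Formal.Completion
import Groth.Agent.H24Formal.ProIso
import Groth.Agent.H24Formal.OfIso
import Groth.Agent.H16Derived.ProjFormula.ClosedImm
import Groth.Agent.H22Alg.ESZPush
import Groth.Agent.H05EGA4.NormalFlat
import Groth.Prelude.Def_FSch5

/-!
# Algebraization of formal modules of depth two on the complement of a closed subset
-/

set_option autoImplicit false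
set_option linter.style.haveILetI false

universe u

open CategoryTheory CategoryTheory.Limits AlgebraicGeometry Opposite

attribute [-instance] CategoryTheory.catToReflQuiver

namespace Groth.Agent.H24Depth2

attribute [local instance 10000] H10Coh.hasSheafifyAb H10Coh.hasWeakSheafifyAb H10Coh.hasExtAb H10Coh.enoughInjAb

theorem app_trans {C D : Type*} [Category C] [Category D] {F G H : C ⥤ D} (a : F ≅ G) (b : G ≅ H) (X : C) :
    a.app X ≪≫ b.app X = (a ≪≫ b).app X := Iso.ext rfl

/-- The system of pullbacks with composed transition isomorphisms. -/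
theorem mk_eq_pbSys {X : Scheme.{u}} {𝔛 : FSch.Sys.{u}} (c : ∀ n, 𝔛.X n ⟶ X)
    (hc : ∀ n, 𝔛.ι n ≫ c (n + 1) = c n) (F : X.Modules) :
    (FSch.ModSys.mk (fun n => (Scheme.Modules.pullback (c n)).obj F) (fun n =>
      (Scheme.Modules.pullbackComp (𝔛.ι n) (c (n + 1))).app F ≪≫
        (Scheme.Modules.pullbackCongr (hc n)).app F) : FSch.ModSys 𝔛) =
      H24FMod.pbSys c (fun n => Scheme.Modules.pullbackComp (𝔛.ι n) (c (n + 1)) ≪≫
        Scheme.Modules.pullbackCongr (hc n)) F := by
  unfold H24FMod.pbSys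
  congr 1

theorem completionMod_eq {X : Scheme.{u}} (𝓘 : X.IdealSheafData) (F : X.Modules) :
    FSch.completionMod 𝓘 F = H24FMod.pbSys (FSch.completionToX X 𝓘)
      (fun n => Scheme.Modules.pullbackComp ((FSch.completionAlong X 𝓘).ι n) (FSch.completionToX X 𝓘 (n + 1)) ≪≫
        Scheme.Modules.pullbackCongr (FSch.completionToX_comm X 𝓘 n)) F :=
  mk_eq_pbSys (FSch.completionToX X 𝓘) (FSch.completionToX_comm X 𝓘) F

theorem comp_eq_zero_of_kernel_eq_image {C : Type*} [Category C] [Abelian C] {L M N : C} (a : L ⟶ M) (b : M ⟶ N)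
    (h : kernelSubobject b = imageSubobject a) : a ≫ b = 0 := by
  have h1 : (kernelSubobject b).Factors a := by
    rw [h]
    exact (Subobject.factors_iff _ _).2 ⟨factorThruImageSubobject a, imageSubobject_arrow_comp a⟩
  exact (kernelSubobject_factors_iff b a).1 h1

theorem exists_preimage_of_exact {X Y : Scheme.{u}} (f : X ⟶ Y) [IsClosedImmersion f] {M : X.Modules} (a b : M ⟶ M)
    (h : kernelSubobject b = imageSubobject a) {T : Y.Modules} (x : T ⟶ (Scheme.Modules.pushforward f).obj M)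
    (hx : x ≫ (Scheme.Modules.pushforward f).map b = 0) :
    ∃ (T' : Y.Modules) (r : T' ⟶ T) (_ : Epi r) (z : T' ⟶ (Scheme.Modules.pushforward f).obj M),
      r ≫ x = z ≫ (Scheme.Modules.pushforward f).map a := by
  haveI := H16Derived.ProjFormula.preservesHomology_push f
  let S := ShortComplex.mk a b (comp_eq_zero_of_kernel_eq_image a b h)
  have hS : S.Exact := exact_of_kernel_eq_image S h
  exact (hS.map (Scheme.Modules.pushforward f)).exact_up_to_refinements x hx

variable (A : Type u) [CommRing A] [IsNoetherianRing A] (t : A) [IsAdicComplete (Ideal.span {t}) A] (I : Ideal A)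

local notation "U" => LocCoh.puncturedOpen A I

/-- A split formal module on the open with finite cohomology is a completion. -/
theorem exists_completion_iso (G : ℕᵒᵖ ⥤ (U : Scheme.{u}).Modules) (hG : Formal.IsCohFormal (Ideal.span {t}) G)
    {d : ℕ} {f : Fin d → A} {hf : H24Algz5.Jf f ≤ Ideal.span {t}} (hsplit : H24Algz5.IsSplit hG f hf)
    (h0 : Module.Finite A (Coh.HH (U : Scheme.{u}) (G.obj (op 0)) 0))
    (h1 : Module.Finite A (Coh.HH (U : Scheme.{u}) (G.obj (op 0)) 1)) :
    ∃ F : (U : Scheme.{u}).Modules, Coh.IsCoh F ∧ Nonempty (Formal.completion (Ideal.span {t}) F ≅ G) := by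
  letI : (Spec (CommRingCat.of A)).Over (Spec (CommRingCat.of A)) := ⟨𝟙 _⟩
  let R := CommRingCat.of A
  obtain ⟨G', hG', hpro⟩ := H24Algz5.canonicallyExtends_of_split A rfl U (by rfl) hG hsplit h0 h1
  haveI : ∀ n : ℕᵒᵖ, ((G ⋙ Scheme.Modules.pushforward (Scheme.Opens.ι U)).obj n).IsQuasicoherent := fun n => by
    haveI : CompactSpace (U).toScheme := isCompact_iff_compactSpace.1 (TopologicalSpace.NoetherianSpace.isCompact _)
    haveI : QuasiCompact (Scheme.Opens.ι U) := quasiCompact_of_compactSpace _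
    haveI : (G.obj n).IsQuasicoherent := (hG.1 n.unop).1
    exact H10Coh.isQuasicoherent_pushforward (Scheme.Opens.ι U) (G.obj n)
  let e₁ : Algz.sectSys A U G ≅ G ⋙ Scheme.Modules.pushforward (Scheme.Opens.ι U) :=
    NatIso.ofComponents (fun n => H10Coh.tildeIso (R := R) ((G ⋙ Scheme.Modules.pushforward (Scheme.Opens.ι U)).obj n))
      fun {n n'} f => (tilde.adjunction (R := R)).counit.naturality ((G ⋙ Scheme.Modules.pushforward (Scheme.Opens.ι U)).map f)
  let e₂ : Algz.sectSys A U G ⋙ Scheme.Modules.restrictFunctor (Scheme.Opens.ι U) ≅ G :=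
    Functor.isoWhiskerRight e₁ _ ≪≫ NatIso.ofComponents (fun n => H10Coh.pushRestrictSelf (Scheme.Opens.ι U) (G.obj n))
      fun {n n'} f => (Scheme.Modules.restrictAdjunction (Scheme.Opens.ι U)).counit.naturality (G.map f)
  have hp := H24Formal.isProIsomorphic_of_iso_left e₂
    (H24Formal.isProIsomorphic_map (Scheme.Modules.restrictFunctor (Scheme.Opens.ι U)) hpro)
  let w := Functor.isoWhiskerLeft G' (Scheme.Modules.restrictFunctorIsoPullback (Scheme.Opens.ι U))
  have hG'' : Formal.IsCohFormal (A := A) (Ideal.span {t}) (G' ⋙ Scheme.Modules.restrictFunctor (Scheme.Opens.ι U)) :=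
    H24Formal.isCohFormal_of_iso w.symm (H24Formal.isCohFormal_pullback (A := A) (Scheme.Opens.ι U) (by rfl) _ hG')
  obtain ⟨e₃⟩ := H24Formal.nonempty_iso_of_isProIsomorphic G _ hG hG'' hp
  have hcl : IsClosed (CohB1.support (G'.obj (op 0))) := LeadProper.isClosed_support _ (hG'.1 0).1 (hG'.1 0).2
  have hps : ClSub.IsProperOver ((Spec R) ↘ Spec R) (CohB1.support (G'.obj (op 0))) :=
    ⟨hcl, by
      show IsProper (_ ≫ 𝟙 (Spec R))
      rw [Category.comp_id]
      infer_instance⟩
  haveI : IsSeparated ((Spec R) ↘ Spec R) := inferInstanceAs (IsSeparated (𝟙 (Spec R)))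
  haveI : LocallyOfFiniteType ((Spec R) ↘ Spec R) := inferInstanceAs (LocallyOfFiniteType (𝟙 (Spec R)))
  haveI : QuasiCompact ((Spec R) ↘ Spec R) := inferInstanceAs (QuasiCompact (𝟙 (Spec R)))
  obtain ⟨M, hM, -, ⟨e⟩⟩ := H24GE.exists_algebraization_properSupport (Spec R) (Ideal.span {t}) G' hG' hps
  obtain ⟨e₄⟩ := H24Formal.nonempty_completion_pullback_iso (A := A) (Scheme.Opens.ι U) (by rfl) (Ideal.span {t}) M
  exact ⟨(Scheme.Modules.pullback (Scheme.Opens.ι U)).obj M, H17.ConsProp.isCoh_pullback _ hM,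
    ⟨e₄ ≪≫ Functor.isoWhiskerRight e _ ≪≫ w.symm ≪≫ e₃.symm⟩⟩

/-- The ideal sheaf of the parameter on the open. -/
noncomputable def idl : (U : Scheme.{u}).IdealSheafData :=
  (Spec.map (CommRingCat.ofHom (Ideal.Quotient.mk (Ideal.span {t})))).ker.comap (Scheme.Opens.ι (LocCoh.puncturedOpen A I))

omit [IsAdicComplete (Ideal.span {t}) A] in
theorem ker_c (n : ℕ) : (FSch.completionToX (U : Scheme.{u}) (idl A t I) n).ker =
    H24GE.idealOf (U : Scheme.{u}) (Ideal.span {t}) ^ (n + 1) :=
  H24FMod.ker_completionToX A (Ideal.span {t}) (Scheme.Opens.ι U) (𝓘 := idl A t I) rfl rfl n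

omit [IsNoetherianRing A] [IsAdicComplete (Ideal.span {t}) A] in
/-- Multiplication by the parameter on a level splits the layers. -/
theorem exists_preimage_level {X Y : Scheme.{u}} [Y.Over (Spec (CommRingCat.of A))] (c : X ⟶ Y) [IsClosedImmersion c]
    (M : X.Modules) (N : ℕ)
    (h : kernelSubobject (Formal.smulModΓ M (((c ≫ (Y ↘ Spec (CommRingCat.of A))).appTop.hom
        ((Scheme.ΓSpecIso (CommRingCat.of A)).inv t)) ^ N)) =
      imageSubobject (Formal.smulModΓ M ((c ≫ (Y ↘ Spec (CommRingCat.of A))).appTop.hom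
        ((Scheme.ΓSpecIso (CommRingCat.of A)).inv t))))
    {T : Y.Modules} (x : T ⟶ (Scheme.Modules.pushforward c).obj M)
    (hx : x ≫ Formal.smulMod A ((Scheme.Modules.pushforward c).obj M) (t ^ N) = 0) :
    ∃ (T' : Y.Modules) (r : T' ⟶ T) (_ : Epi r) (z : T' ⟶ (Scheme.Modules.pushforward c).obj M),
      r ≫ x = z ≫ Formal.smulMod A ((Scheme.Modules.pushforward c).obj M) t := by
  letI : X.Over (Spec (CommRingCat.of A)) := ⟨c ≫ (Y ↘ Spec (CommRingCat.of A))⟩
  have hs := fun a : A => H24Formal.pushforward_map_smulMod (A := A) c rfl M a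
  have h' : kernelSubobject (Formal.smulMod A M (t ^ N)) = imageSubobject (Formal.smulMod A M t) := by
    rw [show Formal.smulMod A M (t ^ N) = Formal.smulModΓ M ((Coh.toGlobal (X ↘ Spec (CommRingCat.of A)) t) ^ N) from
      congrArg (Formal.smulModΓ M) (map_pow _ t N)]
    exact h
  obtain ⟨T', r, hr, z, hz⟩ := exists_preimage_of_exact c _ _ h' x ((congrArg (x ≫ ·) (hs (t ^ N))).trans hx)
  exact ⟨T', r, hr, z, hz.trans (congrArg (z ≫ ·) (hs t))⟩

omit [IsAdicComplete (Ideal.span {t}) A] in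
theorem finite_of_depth (R : Type u) [CommRing R] [IsRegularRing R] (π : R →+* A) (hπ : Function.Surjective π)
    {X : Scheme.{u}} (c : X ⟶ (U : Scheme.{u})) [IsClosedImmersion c] (M : X.Modules)
    (hM : Coh.IsCoh ((Scheme.Modules.pushforward c).obj M))
    (hdepth : ∀ y : X, SGA2.relCodim I ((c ≫ Scheme.Opens.ι U).base y) = 1 →
      (2 : ℕ∞) ≤ LocCoh.depth (X.presheaf.stalk y) (M.presheaf.stalk y)) (i : ℕ) (hi : i ≤ 1) :
    Module.Finite A (Coh.HH (U : Scheme.{u}) ((Scheme.Modules.pushforward c).obj M) i) := by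
  refine H24Punct.finite_HH_of_depth A I R π hπ _ hM 1 (fun x hx => ?_) i hi
  by_cases hxr : x ∈ Set.range c.base
  · obtain ⟨y, rfl⟩ := hxr
    exact le_of_le_of_eq (hdepth y hx) (H22Alg.ESZ.depth_push c M y).symm
  · haveI : Subsingleton (((Scheme.Modules.pushforward c).obj M).presheaf.stalk x) :=
      H16Derived.ProjFormula.subsingleton_stalk_push c M x hxr
    exact le_top.trans_eq (H05EGA4.NormalFlat.depth_eq_top_of_subsingleton _).symm

/-- Formal modules with a regular parameter and depth two at the relative codimension one points. -/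
theorem exists_algebraization (R : Type u) [CommRing R] [IsRegularRing R] (π : R →+* A) (hπ : Function.Surjective π)
    (𝔐 : FSch.ModSys (FSch.completionAlong (U : Scheme.{u}) (idl A t I))) (hcoh : 𝔐.IsCoh)
    (hreg : ∀ N : ℕ, 1 ≤ N → kernelSubobject (Formal.smulModΓ (𝔐.F N)
        (((FSch.completionToX (U : Scheme.{u}) (idl A t I) N ≫ Scheme.Opens.ι U).appTop.hom
          ((Scheme.ΓSpecIso (CommRingCat.of A)).inv t)) ^ N)) =
      imageSubobject (Formal.smulModΓ (𝔐.F N)
        ((FSch.completionToX (U : Scheme.{u}) (idl A t I) N ≫ Scheme.Opens.ι U).appTop.hom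
          ((Scheme.ΓSpecIso (CommRingCat.of A)).inv t))))
    (hdepth : ∀ y : ↥((FSch.completionAlong (U : Scheme.{u}) (idl A t I)).X 0),
      SGA2.relCodim I ((FSch.completionToX (U : Scheme.{u}) (idl A t I) 0 ≫ Scheme.Opens.ι U).base y) = 1 →
        (2 : ℕ∞) ≤ LocCoh.depth (((FSch.completionAlong (U : Scheme.{u}) (idl A t I)).X 0).presheaf.stalk y)
          ((𝔐.F 0).presheaf.stalk y)) :
    ∃ F : (U : Scheme.{u}).Modules, Coh.IsCoh F ∧ Nonempty (FSch.completionMod (idl A t I) F ≅ 𝔐) := by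
  let c := FSch.completionToX (U : Scheme.{u}) (idl A t I)
  haveI hci : ∀ n, IsClosedImmersion (c n) := H24FMod.isClosedImmersion_completionToX (𝓘 := idl A t I)
  have hI : (Ideal.span {t}).FG := ⟨{t}, by simp⟩
  let G := H24FMod.sysOf c (FSch.completionToX_comm (U : Scheme.{u}) (idl A t I)) 𝔐
  have hG : Formal.IsCohFormal (Ideal.span {t}) G :=
    H24FMod.isCohFormal_sysOf c (FSch.completionToX_comm (U : Scheme.{u}) (idl A t I)) _ (ker_c A t I)
      (H24FSch.isFormal_completionAlong (U : Scheme.{u}) (idl A t I)) hI 𝔐 hcoh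
  have hsplit : H24Algz5.IsSplit hG ![t] (Jf_le t) := isSplit_of_exact t hG fun n {T} x hx =>
    exists_preimage_level A t (c (n + 1)) (𝔐.F (n + 1)) (n + 1) (hreg (n + 1) (Nat.succ_pos n)) x hx
  have hfin := finite_of_depth A I R π hπ (c 0) (𝔐.F 0) (hG.1 0) hdepth
  obtain ⟨F, hF, ⟨e⟩⟩ := exists_completion_iso A t I G hG hsplit (hfin 0 (Nat.zero_le 1)) (hfin 1 le_rfl)
  obtain ⟨e₁, -⟩ := H24FMod.exists_complIso c (FSch.completionToX_comm (U : Scheme.{u}) (idl A t I)) (Ideal.span {t})
    (ker_c A t I) _ (fun _ => rfl) hI F hF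
  obtain ⟨e₂⟩ := H24FMod.nonempty_iso_of_sys c (FSch.completionToX_comm (U : Scheme.{u}) (idl A t I)) (e₁.symm ≪≫ e)
  exact ⟨F, hF, ⟨eqToIso (completionMod_eq (idl A t I) F) ≪≫ e₂⟩⟩

end Groth.Agent.H24Depth2
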