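import Groth.Agent.H24Depth2.Main

/-!
# Algebraization, for the opens of the statements
-/

set_option autoImplicit false
set_option linter.style.haveILetI false

universe u

open CategoryTheory CategoryTheory.Limits AlgebraicGeometry Opposite

attribute [-instance] CategoryTheory.catToReflQuiver

namespace Groth.Agent.H24Depth2

variable (A : Type u) [CommRing A] [IsNoetherianRing A] (t : A) [IsAdicComplete (Ideal.span {t}) A] (I : Ideal A)

theorem exists_algebraization_of_eq (R : Type u) [CommRing R] [IsRegularRing R] (π : R →+* A)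
    (hπ : Function.Surjective π) (V : (Spec (CommRingCat.of A)).Opens) (hV : V = LocCoh.puncturedOpen A I)
    (𝔐 : FSch.ModSys (FSch.completionAlong (V : Scheme.{u})
      ((Spec.map (CommRingCat.ofHom (Ideal.Quotient.mk (Ideal.span {t})))).ker.comap V.ι))) (hcoh : 𝔐.IsCoh)
    (hreg : ∀ N : ℕ, 1 ≤ N → kernelSubobject (Formal.smulModΓ (𝔐.F N)
        (((FSch.completionToX (V : Scheme.{u})
            ((Spec.map (CommRingCat.ofHom (Ideal.Quotient.mk (Ideal.span {t})))).ker.comap V.ι) N ≫ V.ι).appTop.hom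
          ((Scheme.ΓSpecIso (CommRingCat.of A)).inv t)) ^ N)) =
      imageSubobject (Formal.smulModΓ (𝔐.F N)
        ((FSch.completionToX (V : Scheme.{u})
            ((Spec.map (CommRingCat.ofHom (Ideal.Quotient.mk (Ideal.span {t})))).ker.comap V.ι) N ≫ V.ι).appTop.hom
          ((Scheme.ΓSpecIso (CommRingCat.of A)).inv t))))
    (hdepth : ∀ y : ↥((FSch.completionAlong (V : Scheme.{u})
        ((Spec.map (CommRingCat.ofHom (Ideal.Quotient.mk (Ideal.span {t})))).ker.comap V.ι)).X 0),
      SGA2.relCodim I ((FSch.completionToX (V : Scheme.{u})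
        ((Spec.map (CommRingCat.ofHom (Ideal.Quotient.mk (Ideal.span {t})))).ker.comap V.ι) 0 ≫ V.ι).base y) = 1 →
        (2 : ℕ∞) ≤ LocCoh.depth (((FSch.completionAlong (V : Scheme.{u})
            ((Spec.map (CommRingCat.ofHom (Ideal.Quotient.mk (Ideal.span {t})))).ker.comap V.ι)).X 0).presheaf.stalk y)
          ((𝔐.F 0).presheaf.stalk y)) :
    ∃ F : (V : Scheme.{u}).Modules, Coh.IsCoh F ∧ Nonempty (FSch.completionMod
      ((Spec.map (CommRingCat.ofHom (Ideal.Quotient.mk (Ideal.span {t})))).ker.comap V.ι) F ≅ 𝔐) := by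
  subst hV
  exact exists_algebraization A t I R π hπ 𝔐 hcoh hreg hdepth

theorem isClosed_singleton_level [IsLocalRing A] (𝓘 : (FEt.puncturedSpec A : Scheme.{u}).IdealSheafData)
    (y : ↥((FSch.completionAlong (FEt.puncturedSpec A : Scheme.{u}) 𝓘).X 0))
    (hy : SGA2.relCodim (IsLocalRing.maximalIdeal A)
      ((FSch.completionToX (FEt.puncturedSpec A : Scheme.{u}) 𝓘 0 ≫ (FEt.puncturedSpec A).ι).base y) = 1) :
    IsClosed ({y} : Set ↥((FSch.completionAlong (FEt.puncturedSpec A : Scheme.{u}) 𝓘).X 0)) := by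
  haveI := H24FMod.isClosedImmersion_completionToX (𝓘 := 𝓘) 0
  let c := FSch.completionToX (FEt.puncturedSpec A : Scheme.{u}) 𝓘 0
  have h := (H24Punct.isClosed_singleton_of_relCodim A (c.base y) hy).preimage c.continuous
  have e : c.base ⁻¹' {c.base y} = {y} := Set.ext fun z =>
    ⟨fun hz => c.isClosedEmbedding.injective hz, fun hz => congrArg c.base hz⟩
  exact e ▸ h

end Groth.Agent.H24Depth2
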