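import Groth.Agent.H24Algz5.Sect
import Groth.Agent.H24Formal.ModPow

/-!
# The layers of a formal system with a regular parameter are split
-/

set_option autoImplicit false
set_option linter.style.haveILetI false

universe u

open CategoryTheory CategoryTheory.Limits AlgebraicGeometry Opposite

attribute [-instance] CategoryTheory.catToReflQuiver

namespace Groth.Agent.H24Depth2

open H24Algz5

variable {A : Type u} [CommRing A] {X : Scheme.{u}} [X.Over (Spec (CommRingCat.of A))] (t : A)

theorem exact_of_kernel_eq_image {C : Type*} [Category C] [Abelian C] (S : ShortComplex C)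
    (h : kernelSubobject S.g = imageSubobject S.f) : S.Exact := by
  rw [ShortComplex.exact_iff_isIso_imageToKernel]
  have e : imageToKernel S.f S.g S.zero = (Subobject.isoOfEq _ _ h.symm).hom :=
    (cancel_mono (kernelSubobject S.g).arrow).1 (by simp)
  rw [e]
  infer_instance

theorem smulMod_one' (M : X.Modules) : Formal.smulMod A M (1 : A) = 𝟙 M := by
  refine SheafOfModules.Hom.ext (PresheafOfModules.hom_ext fun U => ?_)
  ext m
  change Coh.resTop X U (Coh.toGlobal (X ↘ Spec (CommRingCat.of A)) 1) • m = m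
  rw [map_one, map_one, one_smul]

theorem span_pow_zero_smul (M : X.Modules) (hM : Formal.KilledBy (Ideal.span {t} ^ (0 + 1)) M) :
    Formal.smulMod A M t = 0 :=
  hM t (by rw [zero_add, pow_one]; exact Ideal.mem_span_singleton_self t)

variable {G : ℕᵒᵖ ⥤ X.Modules} (hG : Formal.IsCohFormal (Ideal.span {t}) G)

theorem Jf_le : Jf ![t] ≤ Ideal.span {t} :=
  Ideal.span_le.2 (by rintro _ ⟨j, rfl⟩; fin_cases j; exact Ideal.mem_span_singleton_self t)

theorem pow_mem (n : ℕ) : t ^ n ∈ Ideal.span {t} ^ n := Ideal.pow_mem_pow (Ideal.mem_span_singleton_self t) n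

include hG in
/-- The kernel of a transition map is the image of a power of the parameter. -/
theorem exists_preimage_of_comp_tr_eq_zero (n : ℕ) {T : X.Modules} (x : T ⟶ G.obj (op (n + 1)))
    (hx : x ≫ tr G (Nat.le_succ n) = 0) :
    ∃ (T' : X.Modules) (r : T' ⟶ T) (_ : Epi r) (z : T' ⟶ G.obj (op (n + 1))),
      r ≫ x = z ≫ Formal.smulMod A (G.obj (op (n + 1))) (t ^ (n + 1)) := by
  obtain ⟨hz, hiso⟩ := hG.2.2 n
  haveI := hiso
  have h1 : x ≫ Formal.modPowπ (Ideal.span {t}) (n + 1) (G.obj (op (n + 1))) = 0 := by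
    refine (cancel_mono (cokernel.desc _ _ hz)).1 ?_
    exact ((Category.assoc _ _ _).trans ((congrArg (x ≫ ·) (cokernel.π_desc _ _ hz)).trans hx)).trans zero_comp.symm
  obtain ⟨T', r, hr, z, hz'⟩ :=
    (H24Formal.exact_smulMod_π t (n + 1) (G.obj (op (n + 1)))).exact_up_to_refinements x h1
  exact ⟨T', r, hr, z, hz'⟩

variable (hex : ∀ n, ∀ {T : X.Modules} (x : T ⟶ G.obj (op (n + 1))),
  x ≫ Formal.smulMod A (G.obj (op (n + 1))) (t ^ (n + 1)) = 0 →
    ∃ (T' : X.Modules) (r : T' ⟶ T) (_ : Epi r) (z : T' ⟶ G.obj (op (n + 1))),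
      r ≫ x = z ≫ Formal.smulMod A (G.obj (op (n + 1))) t)

include hG hex in
/-- Multiplication by a power of a regular parameter identifies the first term with a layer. -/
theorem isIso_μl (n : ℕ) : IsIso (μl hG 0 (n + 1) (Nat.zero_le _) (t ^ (n + 1)) (pow_mem t (n + 1))) := by
  let μ : G.obj (op 0) ⟶ Kl G (n + 1) := μl hG 0 (n + 1) (Nat.zero_le _) (t ^ (n + 1)) (pow_mem t (n + 1))
  let M := Mm hG 0 (n + 1) (Nat.zero_le _) (t ^ (n + 1)) (pow_mem t (n + 1))
  have hμ : μ ≫ ιl G (n + 1) = M := (μl_ι hG _ _ _ _ _).trans (Category.id_comp _)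
  haveI : Mono M := by
    rw [Preadditive.mono_iff_cancel_zero]
    intro T x hx
    haveI := epi_tr hG (Nat.zero_le (n + 1))
    obtain ⟨T', q, hq, y, hy⟩ := surjective_up_to_refinements_of_epi (tr G (Nat.zero_le (n + 1))) x
    have h1 : y ≫ Formal.smulMod A (G.obj (op (n + 1))) (t ^ (n + 1)) = 0 := by
      rw [← tr_Mm hG 0 (n + 1) (Nat.zero_le _) (t ^ (n + 1)) (pow_mem t (n + 1)), ← Category.assoc, ← hy,
        Category.assoc, hx, comp_zero]
    obtain ⟨T'', r, hr, z, hz⟩ := hex n y h1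
    refine (cancel_epi (r ≫ q)).1 ?_
    rw [comp_zero, Category.assoc, hy, ← Category.assoc, hz, Category.assoc, H24Formal.smulMod_comm,
      span_pow_zero_smul t _ (hG.2.1 0), comp_zero, comp_zero]
  haveI : Mono μ := by
    haveI : Mono (μ ≫ ιl G (n + 1)) := hμ.symm ▸ ‹Mono M›
    exact mono_of_mono μ (ιl G (n + 1))
  haveI : Epi μ := by
    rw [Preadditive.epi_iff_cancel_zero]
    intro T g hg
    haveI := mono_ιl G (n + 1)
    obtain ⟨T', r, hr, z, hz⟩ := exists_preimage_of_comp_tr_eq_zero t hG n (ιl G (n + 1)) (ιl_tr G n)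
    haveI := hr
    have hr' : r = (z ≫ tr G (Nat.zero_le (n + 1))) ≫ μ := by
      refine (cancel_mono (ιl G (n + 1))).1 ?_
      rw [Category.assoc, hμ, Category.assoc, tr_Mm]
      exact hz
    refine (cancel_epi r).1 ?_
    rw [comp_zero, hr', Category.assoc, hg, comp_zero]
  exact isIso_of_mono_of_epi μ

include hex in
theorem isSplit_of_exact : IsSplit hG ![t] (Jf_le t) := by
  intro n
  rcases n with _ | n
  · refine ⟨1, fun _ => 1, fun _ => by simp, fun _ => 𝟙 _, ?_⟩
    rw [Fin.sum_univ_one, Category.id_comp, μl_zero_smul hG 1]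
    exact smulMod_one' _
  · refine ⟨1, fun _ => t ^ (n + 1), fun _ => Ideal.pow_mem_pow (Ideal.subset_span (Set.mem_range_self (f := ![t]) 0)) _,
      fun _ => @inv _ _ _ _ _ (isIso_μl t hG hex n), ?_⟩
    haveI := isIso_μl t hG hex n
    rw [Fin.sum_univ_one]
    exact IsIso.inv_hom_id _

end Groth.Agent.H24Depth2
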